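import Mathlib

/-!
Sets with the same numbers of fixed points for every subgroup have the same number of points with each stabiliser.
-/

set_option autoImplicit false
set_option linter.style.haveILetI false

namespace CfsgLib.CoprimePair

/-- The fixed points of a subgroup, sorted by stabiliser. -/
theorem card_fixed_split {A Z : Type*} [Group A] [Finite A] [Finite Z] [MulAction A Z] (B : Subgroup A)
    [Fintype (Subgroup A)] [DecidableEq (Subgroup A)] [DecidablePred (fun C : Subgroup A => B ≤ C)] :
    Nat.card {z : Z // ∀ b ∈ B, b • z = z} =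
      ∑ C ∈ Finset.univ.filter (B ≤ ·), Nat.card {z : Z // MulAction.stabilizer A z = C} := by
  classical
  haveI := Fintype.ofFinite Z
  rw [Nat.card_eq_fintype_card, Fintype.card_subtype]
  rw [Finset.card_eq_sum_card_fiberwise (f := fun z : Z => MulAction.stabilizer A z)
    (t := Finset.univ.filter (B ≤ ·)) (fun z hz => by
      simp only [Finset.coe_filter, Finset.mem_univ, true_and, Set.mem_setOf_eq] at hz ⊢
      exact fun b hb => hz b hb)]
  refine Finset.sum_congr rfl fun C hC => ?_
  rw [Nat.card_eq_fintype_card, Fintype.card_subtype]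
  congr 1
  ext z
  simp only [Finset.mem_filter, Finset.mem_univ, true_and] at hC ⊢
  exact ⟨fun hz => hz.2, fun hz => ⟨fun b hb => (hz.ge (hC hb) :), hz⟩⟩

/-- Equal fixed-point counts for all subgroups give a point with trivial stabiliser on one side from one on the other. -/
theorem exists_stabilizer_eq_bot {A X Y : Type*} [Group A] [Finite A] [Finite X] [Finite Y] [MulAction A X]
    [MulAction A Y]
    (h : ∀ B : Subgroup A, Nat.card {x : X // ∀ b ∈ B, b • x = x} = Nat.card {y : Y // ∀ b ∈ B, b • y = y})
    (hY : ∃ y : Y, MulAction.stabilizer A y = ⊥) : ∃ x : X, MulAction.stabilizer A x = ⊥ := by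
  classical
  haveI := Fintype.ofFinite X
  haveI := Fintype.ofFinite Y
  haveI : Fintype (Subgroup A) := Fintype.ofFinite _
  have key : ∀ B : Subgroup A, Nat.card {x : X // MulAction.stabilizer A x = B} =
      Nat.card {y : Y // MulAction.stabilizer A y = B} := by
    intro B
    induction B using WellFoundedGT.induction with
    | _ B ih =>
    have e := h B
    rw [card_fixed_split (Z := X) B, card_fixed_split (Z := Y) B] at e
    have hB : B ∈ Finset.univ.filter (B ≤ ·) := Finset.mem_filter.mpr ⟨Finset.mem_univ _, le_rfl⟩
    rw [← Finset.add_sum_erase _ _ hB, ← Finset.add_sum_erase _ _ hB,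
      Finset.sum_congr rfl (s₁ := (Finset.univ.filter (B ≤ ·)).erase B)
        (f := fun C => Nat.card {x : X // MulAction.stabilizer A x = C})
        (g := fun C => Nat.card {y : Y // MulAction.stabilizer A y = C})
        (fun C hC => ih C (lt_of_le_of_ne (Finset.mem_filter.mp (Finset.mem_of_mem_erase hC)).2
          (Ne.symm (Finset.ne_of_mem_erase hC))))] at e
    exact Nat.add_right_cancel e
  obtain ⟨y, hy⟩ := hY
  have hpos : 0 < Nat.card {x : X // MulAction.stabilizer A x = ⊥} := by
    rw [key ⊥]
    haveI : Nonempty {y : Y // MulAction.stabilizer A y = ⊥} := ⟨⟨y, hy⟩⟩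
    exact Nat.card_pos
  obtain ⟨⟨x, hx⟩⟩ := (Nat.card_pos_iff.mp hpos).1
  exact ⟨x, hx⟩

end CfsgLib.CoprimePair
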