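import Mathlib
import Cfsg.Agent.Coprime.External

/-!
For a coprime action on a `q`-group there is an elementary abelian module with the same numbers of fixed points.
-/

set_option autoImplicit false
set_option linter.style.haveILetI false
set_option linter.unusedSectionVars false

namespace CfsgLib.CoprimePair

universe u v

variable {A : Type u} [Group A] [Finite A]

/-- The automorphism given by an element of a subgroup. -/
def subAut (S : Type v) [Group S] [MulDistribMulAction A S] (B : Subgroup A) : B →* MulAut S :=
  (MulDistribMulAction.toMulAut A S).comp B.subtype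

theorem subAut_apply {S : Type v} [Group S] [MulDistribMulAction A S] (B : Subgroup A) (b : B) (x : S) :
    subAut S B b x = (b : A) • x := rfl

/-- The fixed elements of a subgroup of operators. -/
def fixedSub (S : Type v) [Group S] [MulDistribMulAction A S] (B : Subgroup A) : Subgroup S where
  carrier := {x | ∀ b ∈ B, b • x = x}
  one_mem' := fun b _ => smul_one b
  mul_mem' := fun {x y} hx hy b hb => by rw [smul_mul', hx b hb, hy b hb]
  inv_mem' := fun {x} hx b hb => by rw [smul_inv', hx b hb]

theorem card_fixedSub (S : Type v) [Group S] [MulDistribMulAction A S] (B : Subgroup A) :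
    Nat.card (fixedSub S B) = Nat.card {x : S // ∀ b ∈ B, b • x = x} := rfl

/-- An elementary abelian group with operators, on a type in the lowest universe. -/
theorem exists_module_of_elementary {q : ℕ} [Fact q.Prime] (W : Type v) [CommGroup W] [Finite W]
    [MulDistribMulAction A W] (hexp : ∀ x : W, x ^ q = 1) :
    ∃ (V : Type) (_ : AddCommGroup V) (_ : Finite V) (_ : DistribMulAction A V), (∀ x : V, q • x = 0) ∧
      ∀ B : Subgroup A, Nat.card {x : V // ∀ b ∈ B, b • x = x} = Nat.card {x : W // ∀ b ∈ B, b • x = x} := by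
  letI : Module (ZMod q) (Additive W) :=
    AddCommGroup.zmodModule (n := q) fun x => congrArg Additive.ofMul (hexp x.toMul)
  haveI : Module.Finite (ZMod q) (Additive W) := Module.Finite.of_finite
  let b := Module.finBasis (ZMod q) (Additive W)
  let f : W ≃ (Fin (Module.finrank (ZMod q) (Additive W)) → ZMod q) :=
    Additive.ofMul.trans b.equivFun.toEquiv
  have hmul : ∀ x y, f (x * y) = f x + f y := fun x y => map_add b.equivFun (Additive.ofMul x) (Additive.ofMul y)
  have hone : f 1 = 0 := map_zero b.equivFun
  have hmul' : ∀ x y, f.symm (x + y) = f.symm x * f.symm y := fun x y => f.injective (by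
    rw [Equiv.apply_symm_apply, hmul, Equiv.apply_symm_apply, Equiv.apply_symm_apply])
  letI : DistribMulAction A (Fin (Module.finrank (ZMod q) (Additive W)) → ZMod q) :=
    { smul := fun a x => f (a • f.symm x)
      one_smul := fun x => by show f ((1 : A) • f.symm x) = x; rw [one_smul, Equiv.apply_symm_apply]
      mul_smul := fun a c x => by
        show f ((a * c) • f.symm x) = f (a • f.symm (f (c • f.symm x)))
        rw [Equiv.symm_apply_apply, mul_smul]
      smul_zero := fun a => by
        show f (a • f.symm 0) = 0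
        rw [show f.symm 0 = 1 from f.symm_apply_eq.mpr hone.symm, smul_one, hone]
      smul_add := fun a x y => by
        show f (a • f.symm (x + y)) = f (a • f.symm x) + f (a • f.symm y)
        rw [hmul', smul_mul', hmul] }
  refine ⟨Fin (Module.finrank (ZMod q) (Additive W)) → ZMod q, inferInstance, inferInstance, inferInstance,
    fun x => funext fun i => by simp, fun B => ?_⟩
  refine Nat.card_congr (f.symm.subtypeEquiv fun x => ?_)
  refine forall₂_congr fun a _ => ?_
  show f (a • f.symm x) = x ↔ a • f.symm x = f.symm x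
  exact f.eq_symm_apply.symm

/-- A module with the same numbers of fixed points as a coprime action on a `q`-group. -/
theorem exists_module {q : ℕ} [hq : Fact q.Prime] :
    ∀ (n : ℕ) (S : Type v) [Group S] [Finite S] [MulDistribMulAction A S], Nat.card S ≤ n → IsPGroup q S →
      (Nat.card A).Coprime (Nat.card S) →
    ∃ (V : Type) (_ : AddCommGroup V) (_ : Finite V) (_ : DistribMulAction A V), (∀ x : V, q • x = 0) ∧
      ∀ B : Subgroup A, Nat.card {x : V // ∀ b ∈ B, b • x = x} = Nat.card {x : S // ∀ b ∈ B, b • x = x} := by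
  intro n
  induction n with
  | zero =>
    intro S _ _ _ h _ _
    exact absurd h (Nat.not_le.mpr Nat.card_pos)
  | succ n IH =>
    intro S _ _ _ hn hS hcop
    classical
    rcases subsingleton_or_nontrivial S with hsub | hnt
    · letI : DistribMulAction A (Fin 0 → ZMod q) :=
        { smul := fun _ x => x, one_smul := fun _ => rfl, mul_smul := fun _ _ _ => rfl,
          smul_zero := fun _ => rfl, smul_add := fun _ _ _ => rfl }
      refine ⟨Fin 0 → ZMod q, inferInstance, inferInstance, inferInstance, fun x => Subsingleton.elim _ _, fun B => ?_⟩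
      haveI : Unique {x : S // ∀ b ∈ B, b • x = x} := ⟨⟨⟨1, fun b _ => smul_one b⟩⟩, fun _ => Subsingleton.elim _ _⟩
      haveI : Unique {x : Fin 0 → ZMod q // ∀ b ∈ B, b • x = x} :=
        ⟨⟨⟨0, fun b _ => Subsingleton.elim _ _⟩⟩, fun _ => Subsingleton.elim _ _⟩
      rw [Nat.card_unique, Nat.card_unique]
    haveI := hS.center_nontrivial
    let Ω : Subgroup S :=
      { carrier := {x | x ∈ Subgroup.center S ∧ x ^ q = 1}
        one_mem' := ⟨one_mem _, one_pow q⟩
        mul_mem' := fun {x y} hx hy => ⟨mul_mem hx.1 hy.1, by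
          rw [(show Commute x y from ((Subgroup.mem_center_iff.mp hx.1) y).symm).mul_pow, hx.2, hy.2, one_mul]⟩
        inv_mem' := fun {x} hx => ⟨inv_mem hx.1, by rw [inv_pow, hx.2, inv_one]⟩ }
    haveI : Ω.Normal := ⟨fun x hx g => by
      rw [Subgroup.mem_center_iff.mp hx.1 g, mul_inv_cancel_right]; exact hx⟩
    have hΩinv : ∀ (a : A), ∀ x ∈ Ω, a • x ∈ Ω := fun a x hx => ⟨Subgroup.mem_center_iff.mpr fun g => by
      have h := congrArg (a • ·) (Subgroup.mem_center_iff.mp hx.1 (a⁻¹ • g))
      simpa [smul_mul', smul_inv_smul] using h, by rw [← smul_pow', hx.2, smul_one]⟩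
    have hΩne : Ω ≠ ⊥ := by
      obtain ⟨z, hz⟩ : ∃ z : Subgroup.center S, orderOf z = q :=
        exists_prime_orderOf_dvd_card' q (by
          obtain ⟨k, hk0, hk⟩ := (hS.to_subgroup (Subgroup.center S)).nontrivial_iff_card.mp inferInstance
          rw [hk]
          exact dvd_pow_self q hk0.ne')
      intro e
      have h1 : (z : S) ∈ Ω := ⟨z.2, by rw [← SubgroupClass.coe_pow, ← hz, pow_orderOf_eq_one]; rfl⟩
      rw [e, Subgroup.mem_bot] at h1
      rw [show z = 1 from Subtype.ext h1, orderOf_one] at hz
      exact hq.out.one_lt.ne hz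
    letI : CommGroup Ω :=
      { (inferInstance : Group Ω) with
        mul_comm := fun x y => Subtype.ext ((Subgroup.mem_center_iff.mp x.2.1) (y : S)).symm }
    letI : MulDistribMulAction A Ω :=
      { smul := fun a x => ⟨a • (x : S), hΩinv a x x.2⟩
        one_smul := fun x => Subtype.ext (one_smul A (x : S))
        mul_smul := fun a c x => Subtype.ext (mul_smul a c (x : S))
        smul_mul := fun a x y => Subtype.ext (smul_mul' a (x : S) y)
        smul_one := fun a => Subtype.ext (smul_one a) }
    let act : A → S ⧸ Ω →* S ⧸ Ω := fun a =>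
      QuotientGroup.map _ _ (MulDistribMulAction.toMonoidHom S a) fun x hx => hΩinv a x hx
    letI : MulDistribMulAction A (S ⧸ Ω) :=
      { smul := fun a x => act a x
        one_smul := fun x => by
          induction x using QuotientGroup.induction_on with
          | _ g => show ((1 : A) • g : S) = ((g : S) : S ⧸ Ω); rw [one_smul]
        mul_smul := fun a c x => by
          induction x using QuotientGroup.induction_on with
          | _ g => show (((a * c) • g : S) : S ⧸ Ω) = ((a • c • g : S) : S ⧸ Ω); rw [mul_smul]
        smul_mul := fun a x y => map_mul (act a) x y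
        smul_one := fun a => map_one (act a) }
    have hlt : Nat.card (S ⧸ Ω) ≤ n := by
      have h1 : 1 < Nat.card Ω := Finite.one_lt_card_iff_nontrivial.mpr ((Subgroup.nontrivial_iff_ne_bot Ω).mpr hΩne)
      have h2 := Subgroup.card_eq_card_quotient_mul_card_subgroup Ω
      have h3 : 0 < Nat.card (S ⧸ Ω) := Nat.card_pos
      nlinarith
    obtain ⟨V₁, i1, i2, i3, hexp₁, hV₁⟩ := exists_module_of_elementary (A := A) (q := q) Ω
      (fun x => Subtype.ext x.2.2)
    obtain ⟨V₂, j1, j2, j3, hexp₂, hV₂⟩ := IH (S ⧸ Ω) hlt (hS.to_quotient Ω)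
      (hcop.coprime_dvd_right (Subgroup.card_quotient_dvd_card Ω))
    refine ⟨V₁ × V₂, inferInstance, inferInstance, inferInstance,
      fun x => Prod.ext (by simp [hexp₁]) (by simp [hexp₂]), fun B => ?_⟩
    have e : {x : V₁ × V₂ // ∀ b ∈ B, b • x = x} ≃
        {x : V₁ // ∀ b ∈ B, b • x = x} × {x : V₂ // ∀ b ∈ B, b • x = x} :=
      { toFun := fun x => (⟨x.1.1, fun b hb => congrArg Prod.fst (x.2 b hb)⟩,
          ⟨x.1.2, fun b hb => congrArg Prod.snd (x.2 b hb)⟩)
        invFun := fun x => ⟨(x.1.1, x.2.1), fun b hb => Prod.ext (x.1.2 b hb) (x.2.2 b hb)⟩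
        left_inv := fun x => rfl
        right_inv := fun x => rfl }
    rw [Nat.card_congr e, Nat.card_prod, hV₁ B, hV₂ B]
    let π : fixedSub S B →* S ⧸ Ω := (QuotientGroup.mk' Ω).comp (fixedSub S B).subtype
    have hrange : π.range = fixedSub (S ⧸ Ω) B := by
      refine le_antisymm ?_ fun y hy => ?_
      · rintro _ ⟨x, rfl⟩ b hb
        show (((b • (x : S)) : S) : S ⧸ Ω) = ((x : S) : S ⧸ Ω)
        rw [x.2 b hb]
      · obtain ⟨g, rfl⟩ := QuotientGroup.mk'_surjective Ω y
        haveI := hS.isNilpotent
        obtain ⟨m, hm, hfix⟩ := Coprime.exists_fixed_mul_of_action (subAut S B)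
          (hcop.coprime_dvd_left (Subgroup.card_subgroup_dvd_card B)) (Or.inr inferInstance) Ω
          (fun b x hx => hΩinv b x hx) (g := g) (fun b => by
            rw [subAut_apply, ← QuotientGroup.eq]
            exact (hy b b.2).symm)
        refine ⟨⟨g * m, fun b hb => hfix ⟨b, hb⟩⟩, ?_⟩
        show ((g * m : S) : S ⧸ Ω) = (g : S ⧸ Ω)
        rw [QuotientGroup.eq, mul_inv_rev, inv_mul_cancel_right]
        exact inv_mem hm
    have hker : Nat.card π.ker = Nat.card {x : Ω // ∀ b ∈ B, b • x = x} :=
      Nat.card_congr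
        { toFun := fun x => ⟨⟨((x : fixedSub S B) : S), (QuotientGroup.eq_one_iff _).mp x.2⟩,
            fun b hb => Subtype.ext (x.1.2 b hb)⟩
          invFun := fun x => ⟨⟨((x : Ω) : S), fun b hb => congrArg Subtype.val (x.2 b hb)⟩,
            (QuotientGroup.eq_one_iff _).mpr x.1.2⟩
          left_inv := fun x => rfl
          right_inv := fun x => rfl }
    have h := Subgroup.card_eq_card_quotient_mul_card_subgroup π.ker
    rw [Nat.card_congr (QuotientGroup.quotientKerEquivRange π).toEquiv, hrange, hker, card_fixedSub,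
      card_fixedSub] at h
    rw [h, mul_comm]

end CfsgLib.CoprimePair
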