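import Cfsg.Agent.CoprimePair.Reduce.Count
import Cfsg.Agent.CoprimePair.Reduce.Module
import Cfsg.Agent.CoprimePair.Transfer

/-!
Two points with trivial common stabiliser for a solvable group acting coprimely on any finite group,
from the frame case.
-/

set_option autoImplicit false
set_option linter.style.haveILetI false
set_option linter.unusedSectionVars false

namespace CfsgLib.CoprimePair

universe u v

open CfsgLib.OddPair (IsCR)

/-- A pair for one module, the action not needing to be faithful. -/
theorem pair_of_module {A : Type u} [Group A] [Finite A] {V : Type} [AddCommGroup V] [Finite V]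
    [DistribMulAction A V] {q : ℕ} [hq : Fact q.Prime] (hF : ∀ n, q ≠ 2 → FrameCase q n)
    (hexp : ∀ x : V, q • x = 0) (hcop : (Nat.card A).Coprime q) (hs : Group.IsSolvable A) :
    ∃ v w : V, ∀ a : A, a • v = v → a • w = w → ∀ x : V, a • x = x := by
  let π : A →* Equiv.Perm V := MulAction.toPermHom A V
  let B := π.range
  have happ : ∀ g : B, ∃ a : A, ∀ x : V, (g : Equiv.Perm V) x = a • x := fun g => by
    obtain ⟨a, ha⟩ := g.2
    exact ⟨a, fun x => by rw [← ha]; rfl⟩
  letI : DistribMulAction B V :=
    { smul := fun g x => (g : Equiv.Perm V) x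
      one_smul := fun x => rfl
      mul_smul := fun g h x => rfl
      smul_zero := fun g => by
        obtain ⟨a, ha⟩ := happ g
        exact (ha 0).trans (smul_zero a)
      smul_add := fun g x y => by
        obtain ⟨a, ha⟩ := happ g
        show (g : Equiv.Perm V) (x + y) = (g : Equiv.Perm V) x + (g : Equiv.Perm V) y
        rw [ha, ha, ha, smul_add] }
  haveI : FaithfulSMul B V := ⟨fun {g h} e => Subtype.ext (Equiv.ext e)⟩
  haveI := hs
  have hsB : Group.IsSolvable B := Group.isSolvable_of_surjective π.rangeRestrict_surjective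
  have hcopB : (Nat.card B).Coprime q := hcop.coprime_dvd_left (Subgroup.card_range_dvd π)
  obtain ⟨v, w, h⟩ : ∃ v w : V, ∀ g : B, g • v = v → g • w = w → g = 1 := by
    rcases eq_or_ne q 2 with rfl | hq2
    · have hodd : Odd (Nat.card B) := Nat.odd_iff.mpr (by
        have := (Nat.prime_two.coprime_iff_not_dvd).mp hcopB.symm
        omega)
      exact OddPair.exists_pair_of_isSolvable hodd hsB fun U hU => exists_invariant_complement hexp hcopB U hU
    · exact exists_pair_of_frameCase hq.out hq2 (fun n => hF n hq2) hexp hcopB hsB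
  exact ⟨v, w, fun a ha ha' x =>
    congrArg (fun g : B => (g : Equiv.Perm V) x) (h ⟨π a, a, rfl⟩ ha ha')⟩

/-- An invariant Sylow subgroup meets the fixed points in a Sylow subgroup of them. -/
theorem card_inf_fixedSub {A : Type u} {K : Type v} [Group A] [Finite A] [Group K] [Finite K]
    [MulDistribMulAction A K] (hs : Group.IsSolvable A) (hcop : (Nat.card A).Coprime (Nat.card K))
    {q : ℕ} [hq : Fact q.Prime] (S : Sylow q K) (hS : ∀ a : A, ∀ x ∈ (S : Subgroup K), a • x ∈ (S : Subgroup K))
    (B : Subgroup A) :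
    Nat.card ((S : Subgroup K) ⊓ fixedSub K B : Subgroup K) = q ^ (Nat.card (fixedSub K B)).factorization q := by
  classical
  set φ := subAut K B with hφ
  haveI := Coprime.finite_semidirect φ
  set ι := SemidirectProduct.inl (φ := φ) with hι
  set R := (SemidirectProduct.inr (φ := φ)).range with hR
  set G' := (⊤ : Subgroup K).map ι with hG'
  let e : K ≃* G' := Subgroup.topEquiv.symm.trans
    ((⊤ : Subgroup K).equivMapOfInjective ι SemidirectProduct.inl_injective)
  let P : Sylow q G' := S.mapSurjective (f := e.toMonoidHom) e.surjective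
  have hPmap : (P : Subgroup G').map G'.subtype = (S : Subgroup K).map ι := by
    show ((S : Subgroup K).map e.toMonoidHom).map G'.subtype = _
    rw [Subgroup.map_map]
    rfl
  obtain ⟨U⟩ : Nonempty (Sylow q (fixedSub K B)) := inferInstance
  set U' := ((U : Subgroup (fixedSub K B)).map (fixedSub K B).subtype).map ι with hU'
  have hUle : ((U : Subgroup (fixedSub K B)).map (fixedSub K B).subtype) ≤ fixedSub K B := Subgroup.map_subtype_le _
  obtain ⟨c, hc, hUc⟩ := Coprime.isPGroup_le_inf_centralizer (A := R) (G := G')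
    (Coprime.inr_le_normalizer_map_inl φ (H := (⊤ : Subgroup K)) fun _ _ _ => Subgroup.mem_top _)
    (by
      rw [hR, hG', Coprime.card_range_inr, Coprime.card_map_inl, Subgroup.card_top]
      exact hcop.coprime_dvd_left (Subgroup.card_subgroup_dvd_card B))
    (Or.inl (Coprime.isSolvable_range_inr φ (by haveI := hs; infer_instance)))
    P (by
      rw [hPmap]
      exact Coprime.inr_le_normalizer_map_inl φ fun b x hx => hS b x hx)
    (U := U') ((U.isPGroup'.map _).map _) (le_inf (Subgroup.map_mono le_top) (by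
      rintro _ ⟨x, hx, rfl⟩
      exact (Coprime.inl_mem_centralizer_range_inr_iff φ).mpr fun b => hUle hx b b.2))
  have hle : U'.map (MulAut.conj c).toMonoidHom ≤ ((S : Subgroup K) ⊓ fixedSub K B).map ι := by
    intro y hy
    obtain ⟨hy1, hy2⟩ := Subgroup.mem_inf.mp (hUc hy)
    rw [hPmap] at hy1
    obtain ⟨x, hx, rfl⟩ := hy1
    exact ⟨x, ⟨hx, fun b hb => (Coprime.inl_mem_centralizer_range_inr_iff φ).mp hy2 ⟨b, hb⟩⟩, rfl⟩
  have hge : q ^ (Nat.card (fixedSub K B)).factorization q ≤
      Nat.card ((S : Subgroup K) ⊓ fixedSub K B : Subgroup K) := by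
    rw [← U.card_eq_multiplicity, ← Coprime.card_map_inl φ ((S : Subgroup K) ⊓ fixedSub K B),
      ← Subgroup.card_map_of_injective (f := (fixedSub K B).subtype) (K := (U : Subgroup (fixedSub K B)))
        Subtype.val_injective,
      ← Coprime.card_map_inl φ, ← Subgroup.card_map_of_injective (f := (MulAut.conj c).toMonoidHom) (K := U') (MulAut.conj c).injective]
    exact Nat.card_le_card_of_injective _ (Subgroup.inclusion_injective hle)
  obtain ⟨k, hk⟩ := IsPGroup.iff_card.mp (S.isPGroup'.to_le (inf_le_left : (S : Subgroup K) ⊓ fixedSub K B ≤ _))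
  refine le_antisymm (Nat.le_of_dvd (pow_pos hq.out.pos _) ?_) hge
  rw [hk]
  exact Nat.pow_dvd_pow q ((hq.out.pow_dvd_iff_le_factorization Nat.card_pos.ne').mp
    (hk ▸ Subgroup.card_dvd_of_le inf_le_right))

/-- Two points with trivial common stabiliser, from the frame case. -/
theorem exists_two_points_of_frameCase {A : Type u} {K : Type v} [Group A] [Finite A] [Group K] [Finite K]
    [MulDistribMulAction A K] [FaithfulSMul A K] (hF : ∀ p n : ℕ, p.Prime → p ≠ 2 → FrameCase p n)
    (hs : Group.IsSolvable A) (hcop : (Nat.card A).Coprime (Nat.card K)) :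
    ∃ x y : K, ∀ a : A, a • x = x → a • y = y → a = 1 := by
  classical
  let ι := {q : ℕ // q ∈ (Nat.card K).primeFactors}
  have hprime : ∀ q : ι, Fact q.1.Prime := fun q => ⟨Nat.prime_of_mem_primeFactors q.2⟩
  have hdvd : ∀ q : ι, q.1 ∣ Nat.card K := fun q => Nat.dvd_of_mem_primeFactors q.2
  have hsyl : ∀ q : ι, ∃ S : Sylow q.1 K, ∀ a : A, ∀ x ∈ (S : Subgroup K), a • x ∈ (S : Subgroup K) := fun q => by
    haveI := hprime q
    exact Coprime.exists_invariant_sylow_action (MulDistribMulAction.toMulAut A K) hcop (Or.inl hs)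
  choose S hS using hsyl
  have hmod : ∀ q : ι, ∃ (V : Type) (_ : AddCommGroup V) (_ : Finite V) (_ : DistribMulAction A V),
      (∀ x : V, q.1 • x = 0) ∧ ∀ B : Subgroup A,
        Nat.card {x : V // ∀ b ∈ B, b • x = x} = q.1 ^ (Nat.card (fixedSub K B)).factorization q.1 := by
    intro q
    haveI := hprime q
    letI : MulDistribMulAction A (S q : Subgroup K) :=
      { smul := fun a x => ⟨a • (x : K), hS q a x x.2⟩
        one_smul := fun x => Subtype.ext (one_smul A (x : K))
        mul_smul := fun a c x => Subtype.ext (mul_smul a c (x : K))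
        smul_mul := fun a x y => Subtype.ext (smul_mul' a (x : K) y)
        smul_one := fun a => Subtype.ext (smul_one a) }
    obtain ⟨V, i1, i2, i3, hexp, hV⟩ := exists_module (q := q.1) (A := A) (Nat.card (S q : Subgroup K))
      (S q : Subgroup K) le_rfl (S q).isPGroup' (hcop.coprime_dvd_right (Subgroup.card_subgroup_dvd_card _))
    refine ⟨V, i1, i2, i3, hexp, fun B => ?_⟩
    rw [hV B, ← card_inf_fixedSub hs hcop (S q) (hS q) B]
    exact Nat.card_congr
      { toFun := fun x => ⟨((x.1 : (S q : Subgroup K)) : K), x.1.2, fun b hb => congrArg Subtype.val (x.2 b hb)⟩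
        invFun := fun x => ⟨⟨(x : K), x.2.1⟩, fun b hb => Subtype.ext (x.2.2 b hb)⟩
        left_inv := fun x => rfl
        right_inv := fun x => rfl }
  choose V i1 i2 i3 hexp hV using hmod
  letI := i1
  haveI := i2
  letI := i3
  -- equal numbers of fixed points
  have hfix : ∀ B : Subgroup A,
      Nat.card {x : (q : ι) → V q // ∀ b ∈ B, b • x = x} = Nat.card {x : K // ∀ b ∈ B, b • x = x} := by
    intro B
    have e : {x : (q : ι) → V q // ∀ b ∈ B, b • x = x} ≃ ((q : ι) → {x : V q // ∀ b ∈ B, b • x = x}) :=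
      { toFun := fun x q => ⟨x.1 q, fun b hb => congrFun (x.2 b hb) q⟩
        invFun := fun x => ⟨fun q => (x q).1, fun b hb => funext fun q => (x q).2 b hb⟩
        left_inv := fun x => rfl
        right_inv := fun x => rfl }
    rw [Nat.card_congr e, Nat.card_pi, Finset.prod_congr rfl fun q _ => hV q B, ← card_fixedSub K B,
      Finset.prod_coe_sort (Nat.card K).primeFactors fun q => q ^ (Nat.card (fixedSub K B)).factorization q]
    conv_rhs => rw [← Nat.prod_factorization_pow_eq_self (Nat.card_pos (α := fixedSub K B)).ne']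
    rw [Finsupp.prod_of_support_subset _ (s := (Nat.card K).primeFactors) (by
      rw [Nat.support_factorization]
      exact Nat.primeFactors_mono (Subgroup.card_subgroup_dvd_card _) Nat.card_pos.ne') _ (fun q _ => pow_zero q)]
  have hfaith : ∀ a : A, (∀ x : (q : ι) → V q, a • x = x) → a = 1 := by
    intro a ha
    have hall : ∀ x : (q : ι) → V q, ∀ b ∈ Subgroup.zpowers a, b • x = x := fun x b hb =>
      (Subgroup.zpowers_le.mpr (show a ∈ MulAction.stabilizer A x from ha x)) hb
    have h0 := hfix ⊥
    rw [Nat.card_congr (Equiv.subtypeUnivEquiv fun x b hb => by rw [Subgroup.mem_bot.mp hb, one_smul]),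
      Nat.card_congr (Equiv.subtypeUnivEquiv fun (x : K) b hb => by rw [Subgroup.mem_bot.mp hb, one_smul])] at h0
    have h1 := hfix (Subgroup.zpowers a)
    rw [Nat.card_congr (Equiv.subtypeUnivEquiv hall), h0, ← card_fixedSub] at h1
    have htop := Subgroup.eq_top_of_card_eq _ h1.symm
    refine FaithfulSMul.eq_of_smul_eq_smul fun x : K => ?_
    rw [one_smul]
    exact (htop.ge (Subgroup.mem_top x)) a (Subgroup.mem_zpowers a)
  -- a pair on the modules
  have hpairs : ∀ q : ι, ∃ v w : V q, ∀ a : A, a • v = v → a • w = w → ∀ x : V q, a • x = x := fun q => by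
    haveI := hprime q
    exact pair_of_module (fun n h2 => hF q.1 n (hprime q).out h2) (hexp q) (hcop.coprime_dvd_right (hdvd q)) hs
  choose v w hvw using hpairs
  have hY : ∃ y : ((q : ι) → V q) × ((q : ι) → V q), MulAction.stabilizer A y = ⊥ := by
    refine ⟨(v, w), (Subgroup.eq_bot_iff_forall _).mpr fun a ha => hfaith a fun x => funext fun q => ?_⟩
    have h1 : a • (v, w) = (v, w) := ha
    exact hvw q a (congrFun (congrArg Prod.fst h1) q) (congrFun (congrArg Prod.snd h1) q) (x q)
  obtain ⟨⟨x, y⟩, hxy⟩ := exists_stabilizer_eq_bot (X := K × K) (fun B => by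
    have e : ∀ (Z : Type _) [MulAction A Z], {z : Z × Z // ∀ b ∈ B, b • z = z} ≃
        {z : Z // ∀ b ∈ B, b • z = z} × {z : Z // ∀ b ∈ B, b • z = z} := fun Z _ =>
      { toFun := fun z => (⟨z.1.1, fun b hb => congrArg Prod.fst (z.2 b hb)⟩,
          ⟨z.1.2, fun b hb => congrArg Prod.snd (z.2 b hb)⟩)
        invFun := fun z => ⟨(z.1.1, z.2.1), fun b hb => Prod.ext (z.1.2 b hb) (z.2.2 b hb)⟩
        left_inv := fun z => rfl
        right_inv := fun z => rfl }
    have e' : {z : ((q : ι) → V q) × ((q : ι) → V q) // ∀ b ∈ B, b • z = z} ≃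
        {z : (q : ι) → V q // ∀ b ∈ B, b • z = z} × {z : (q : ι) → V q // ∀ b ∈ B, b • z = z} :=
      { toFun := fun z => (⟨z.1.1, fun b hb => congrArg Prod.fst (z.2 b hb)⟩,
          ⟨z.1.2, fun b hb => congrArg Prod.snd (z.2 b hb)⟩)
        invFun := fun z => ⟨(z.1.1, z.2.1), fun b hb => Prod.ext (z.1.2 b hb) (z.2.2 b hb)⟩
        left_inv := fun z => rfl
        right_inv := fun z => rfl }
    rw [Nat.card_congr (e K), Nat.card_congr e', Nat.card_prod, Nat.card_prod, hfix B]) hY
  refine ⟨x, y, fun a ha ha' => Subgroup.mem_bot.mp (hxy ▸ ?_)⟩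
  exact Prod.ext ha ha'

end CfsgLib.CoprimePair
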